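-- The Sylow 3-subgroups of a simple group of order 360.
--
-- * `card_sylow_three`: there are ten
-- * `inf_eq_bot`: two of them meet trivially
import Cfsg.Agent.Lib.SmallOrders.SqSylow
import Cfsg.Agent.Lib.SmallOrders.Check

set_option autoImplicit false

namespace Cfsg.Agent.SmallOrders.S360

open Subgroup

variable {G : Type*} [Group G] [Finite G] [IsSimpleGroup G]

theorem not_comm (h : Nat.card G = 360) : ¬ IsMulCommutative G :=
  not_isMulCommutative_of_card (by rw [h]; norm_num)

theorem six_le_index (h : Nat.card G = 360) {M : Subgroup G} (hM : M ≠ ⊤) : 6 ≤ M.index := by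
  have h5 := five_le_index (not_comm h) hM
  by_contra hle
  have h6 := two_mul_card_dvd_factorial_index (not_comm h) hM
  rw [show M.index = 5 by omega, h] at h6
  revert h6
  decide

variable [Fact (Nat.Prime 3)]

theorem card_sylow (h : Nat.card G = 360) (P : Sylow 3 G) : Nat.card (P : Subgroup G) = 3 ^ 2 :=
  card_sylow_subgroup (p := 3) (e := 2) (m := 40) (by rw [h]; norm_num) (by norm_num) P

theorem card_sylow_three (h : Nat.card G = 360) : Nat.card (Sylow 3 G) = 10 := by
  have hG := not_comm h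
  obtain ⟨P⟩ := (inferInstance : Nonempty (Sylow 3 G))
  have hfac : Nat.card G = 3 ^ 2 * 40 := by rw [h]; norm_num
  have hdm : Nat.card (Sylow 3 G) ∣ 40 :=
    index_sylow hfac (by norm_num) P ▸ P.card_dvd_index
  have hmod : Nat.card (Sylow 3 G) % 3 = 1 := card_sylow_modEq_one 3 G
  have hne := one_lt_card_sylow hG (p := 3) (by rw [h]; norm_num)
  have hbad := badCand_false hG (p := 3) (e := 2) two_ne_zero hfac (by norm_num)
  have hd : ∀ d, d ∣ 40 → d % 3 = 1 → d = 1 ∨ d = 4 ∨ d = 10 ∨ d = 40 := by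
    intro d hd h3
    have := Nat.le_of_dvd (by norm_num) hd
    interval_cases d <;> omega
  rcases hd _ hdm hmod with e | e | e | e
  · omega
  · rw [e, h] at hbad; exact absurd hbad (by decide +kernel)
  · exact e
  · rw [e, h] at hbad; exact absurd hbad (by decide +kernel)

/-- two Sylow 3-subgroups meet trivially -/
theorem inf_eq_bot [Fact (Nat.Prime 2)] (h : Nat.card G = 360) {P Q : Sylow 3 G} (hPQ : P ≠ Q) :
    (P : Subgroup G) ⊓ (Q : Subgroup G) = ⊥ := by
  have hG := not_comm h
  by_contra hne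
  obtain ⟨M, hM, t, hcard, hdvd, hlt, hPM⟩ := exists_normalizer_inter hG (card_sylow h) hPQ hne
  have hidx := six_le_index h hM
  have hmul := M.card_mul_index
  rw [h, hcard] at hmul
  have htd : t ∣ 40 := ⟨M.index, by
    have : 9 * (t * M.index) = 9 * 40 := by rw [← mul_assoc]; simpa using hmul
    omega⟩
  have hmod : Nat.card (Sylow 3 M) % 3 = 1 := card_sylow_modEq_one 3 M
  have ht : t = 4 ∧ Nat.card (Sylow 3 M) = 4 := by
    have h1 : t * M.index = 40 := by
      have : 9 * (t * M.index) = 9 * 40 := by rw [← mul_assoc]; simpa using hmul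
      omega
    have h2 : t * 6 ≤ 40 := h1 ▸ Nat.mul_le_mul_left t hidx
    have h3 : Nat.card (Sylow 3 M) ≤ t :=
      Nat.le_of_dvd (Nat.pos_of_ne_zero fun h0 => by simp [h0] at h1) hdvd
    have h4 : t ≤ 6 := by omega
    interval_cases t <;> interval_cases (Nat.card (Sylow 3 M)) <;> omega
  obtain ⟨rfl, hn4⟩ := ht
  set P' := P.subtype hPM
  have hP' : Nat.card (P' : Subgroup M) = 3 ^ 2 := by
    rw [P.coe_subtype hPM, Nat.card_congr (subgroupOfEquivOfLe hPM).toEquiv, card_sylow h]
  have hidx' : (P' : Subgroup M).index = 4 := by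
    have := (P' : Subgroup M).card_mul_index
    rw [hP', hcard] at this
    omega
  obtain ⟨V, hVn, hV⟩ := exists_normal_complement P'
    (IsPGroup.isMulCommutative_of_card_eq_prime_sq hP') (by rw [hn4, hidx'])
  rw [hidx'] at hV
  set W := V.map M.subtype with hW
  have hWc : Nat.card W = 4 := by rw [hW, card_map_of_injective M.subtype_injective, hV]
  obtain ⟨T, hT⟩ := (IsPGroup.of_card (p := 2) (n := 2) (by rw [hWc]; norm_num) :
    IsPGroup 2 W).exists_le_sylow
  have hTc : Nat.card (T : Subgroup G) = 2 ^ 3 :=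
    card_sylow_subgroup (p := 2) (e := 3) (m := 45) (by rw [h]; norm_num) (by norm_num) T
  set N := normalizer (W : Set G)
  have hTN : (T : Subgroup G) ≤ N := by
    rw [← normal_subgroupOf_iff_le_normalizer hT]
    apply normal_of_index_eq_minFac_card
    have := (W.subgroupOf (T : Subgroup G)).card_mul_index
    rw [Nat.card_congr (subgroupOfEquivOfLe hT).toEquiv, hWc, hTc] at this
    rw [hTc, show (2 ^ 3 : ℕ).minFac = 2 from Nat.Prime.pow_minFac Nat.prime_two three_ne_zero]
    omega
  have hMN : M ≤ N := by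
    intro g hg
    refine mem_normalizer_iff.mpr fun x => ⟨?_, ?_⟩
    · rintro ⟨y, hy, rfl⟩
      exact ⟨_, hVn.conj_mem y hy ⟨g, hg⟩, rfl⟩
    · rintro ⟨y, hy, hyx⟩
      refine ⟨_, hVn.conj_mem y hy ⟨g⁻¹, inv_mem hg⟩, ?_⟩
      have : (y : G) = g * x * g⁻¹ := hyx
      simp [this, mul_assoc]
  have h72 : 72 ∣ Nat.card N := by
    have h1 : 36 ∣ Nat.card N := by
      have := card_dvd_of_le hMN
      rwa [hcard] at this
    have h2 : 8 ∣ Nat.card N := by
      have := card_dvd_of_le hTN
      rwa [hTc] at this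
    exact Nat.lcm_dvd h1 h2
  have hNtop : N ≠ ⊤ := by
    intro ht
    rcases (normalizer_eq_top_iff.mp ht).eq_bot_or_eq_top with hb | ht'
    · rw [hb, card_bot] at hWc; omega
    · rw [ht', Subgroup.card_top, h] at hWc; omega
  have h6 := six_le_index h hNtop
  have h7 := N.card_mul_index
  rw [h] at h7
  obtain ⟨u, hu⟩ := h72
  rw [hu] at h7
  have hu0 : u ≠ 0 := fun h0 => by simp [h0] at h7
  have : 72 * 6 ≤ 72 * u * N.index := Nat.mul_le_mul (Nat.le_mul_of_pos_right 72 (by omega)) h6
  omega

end Cfsg.Agent.SmallOrders.S360
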