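-- A simple group of order 360 acting on its ten Sylow 3-subgroups.
--
-- * `exists_injective_std`: its image is a fixed permutation group of degree 10
import Cfsg.Agent.Lib.SmallOrders.Order360.Local
import Cfsg.Agent.Lib.SmallOrders.TwoPoint.Coords

set_option autoImplicit false

namespace Cfsg.Agent.SmallOrders.S360

open Subgroup MulAction

/-- translations of the plane of order 9, with `9` at infinity -/
def addTab : List (List ℕ) :=
  [[0, 1, 2, 3, 4, 5, 6, 7, 8, 9], [1, 2, 0, 4, 5, 3, 7, 8, 6, 9], [2, 0, 1, 5, 3, 4, 8, 6, 7, 9],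
   [3, 4, 5, 6, 7, 8, 0, 1, 2, 9], [4, 5, 3, 7, 8, 6, 1, 2, 0, 9], [5, 3, 4, 8, 6, 7, 2, 0, 1, 9],
   [6, 7, 8, 0, 1, 2, 3, 4, 5, 9], [7, 8, 6, 1, 2, 0, 4, 5, 3, 9], [8, 6, 7, 2, 0, 1, 5, 3, 4, 9]]

/-- multiplications by the powers of an element of order 4 -/
def mulTab : List (List ℕ) :=
  [[0, 1, 2, 3, 4, 5, 6, 7, 8, 9], [0, 3, 6, 2, 5, 8, 1, 4, 7, 9], [0, 2, 1, 6, 8, 7, 3, 5, 4, 9],
   [0, 6, 3, 1, 7, 4, 2, 8, 5, 9]]

/-- the involution -/
def stdTab : List ℕ := [9, 1, 2, 6, 5, 4, 3, 8, 7, 0]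

theorem check : TwoPoint.checkBool 9 4 addTab mulTab [1, 4] stdTab = true := by decide +kernel

theorem tab_spec : ∀ i, i < 9 → ∀ j, j < 9 →
    TwoPoint.look addTab i j < 9 ∧
      TwoPoint.look addTab i j % 3 = (i + j) % 3 ∧
      TwoPoint.look addTab i j / 3 = (i / 3 + j / 3) % 3 := by decide +kernel

theorem mul_spec : ∀ i, i < 9 →
    TwoPoint.look mulTab 1 i < 9 ∧ TwoPoint.look mulTab 1 i % 3 = (2 * (i / 3)) % 3 ∧
      TwoPoint.look mulTab 1 i / 3 = i % 3 := by decide +kernel

theorem sq_add_one_ne : ∀ z : ZMod 3, z * z + 1 ≠ 0 := by decide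

variable {G : Type*} [Group G] [Finite G] [IsSimpleGroup G]

theorem exists_injective_std (h : Nat.card G = 360) :
    ∃ φ : G →* Equiv.Perm (Fin (9 + 1)), Function.Injective φ ∧
      φ.range = TwoPoint.stdGroup 9 4 addTab mulTab stdTab := by
  classical
  have : Fact (Nat.Prime 3) := ⟨Nat.prime_three⟩
  have : Fact (Nat.Prime 2) := ⟨Nat.prime_two⟩
  have hG := not_comm h
  have : Fintype (Sylow 3 G) := Fintype.ofFinite _
  have hn : Fintype.card (Sylow 3 G) = 10 := by
    rw [← Nat.card_eq_fintype_card, card_sylow_three h]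
  have hfaith : ∀ g : G, (∀ R : Sylow 3 G, g • R = R) → g = 1 := by
    intro g hg
    have hk : (toPermHom G (Sylow 3 G)).ker = ⊥ :=
      (MonoidHom.normal_ker _).eq_bot_or_eq_top.resolve_right fun ht => by
        have : Subsingleton (Sylow 3 G) := ⟨fun A B => by
          obtain ⟨x, hx⟩ := MulAction.exists_smul_eq G A B
          have hx1 : toPermHom G (Sylow 3 G) x = 1 :=
            MonoidHom.mem_ker.mp (ht ▸ mem_top x)
          exact (Equiv.Perm.ext_iff.mp hx1 A).symm.trans hx⟩
        have := Fintype.card_le_one_iff_subsingleton.mpr this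
        omega
    have : g ∈ (toPermHom G (Sylow 3 G)).ker := Equiv.Perm.ext hg
    rwa [hk, mem_bot] at this
  obtain ⟨P⟩ := (inferInstance : Nonempty (Sylow 3 G))
  obtain ⟨Q, hQP⟩ : ∃ Q : Sylow 3 G, Q ≠ P := by
    by_contra! hall
    have : Subsingleton (Sylow 3 G) := ⟨fun A B => (hall A).trans (hall B).symm⟩
    have := Fintype.card_le_one_iff_subsingleton.mpr this
    omega
  set N := normalizer ((P : Subgroup G) : Set G) with hN
  have hfixP : ∀ g : G, g ∈ N ↔ g • P = P := fun g => Sylow.smul_eq_iff_mem_normalizer.symm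
  have hPo : ∀ g ∈ (P : Subgroup G), g • P = P := fun g hg => (hfixP g).mp (le_normalizer hg)
  -- `P` is regular on the other points
  have hfree : ∀ g ∈ (P : Subgroup G), ∀ R : Sylow 3 G, R ≠ P → g • R = R → g = 1 := by
    intro g hg R hR hgR
    have h1 : g ∈ (P : Subgroup G) ⊓ normalizer (R : Set G) :=
      ⟨hg, Sylow.smul_eq_iff_mem_normalizer.mp hgR⟩
    rw [P.isPGroup'.inf_normalizer_sylow R, inf_eq_bot h hR.symm, mem_bot] at h1
    exact h1
  have hreg : ∀ R, R ≠ P → ∃ g ∈ (P : Subgroup G), g • Q = R := by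
    intro R hR
    have : Fintype (P : Subgroup G) := Fintype.ofFinite _
    let f : ↥(P : Subgroup G) → {R : Sylow 3 G // R ≠ P} := fun g => ⟨(g : G) • Q, fun he =>
      hQP (smul_left_cancel (g : G) (he.trans (hPo g g.2).symm))⟩
    have hf : Function.Bijective f := by
      refine (Fintype.bijective_iff_injective_and_card f).mpr ⟨fun a b hab => Subtype.ext ?_, ?_⟩
      · have h1 : (a : G) • Q = (b : G) • Q := congrArg Subtype.val hab
        exact (inv_mul_eq_one.mp (hfree _ (mul_mem (inv_mem a.2) b.2) Q hQP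
          (by rw [mul_smul, ← h1, inv_smul_smul])))
      · rw [Fintype.card_subtype_compl, Fintype.card_subtype_eq, hn, ← Nat.card_eq_fintype_card,
          card_sylow h]
        rfl
    obtain ⟨g, hg⟩ := hf.2 ⟨R, hR⟩
    exact ⟨g, g.2, congrArg Subtype.val hg⟩
  -- the stabiliser of the two points
  set S := N ⊓ normalizer ((Q : Subgroup G) : Set G) with hS
  have hNc : Nat.card N = 36 := by
    have := card_normalizer_mul_card_sylow P
    rw [card_sylow_three h, h] at this
    exact Nat.eq_of_mul_eq_mul_right (by norm_num : 0 < 10) this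
  have hsQ : ∀ g ∈ S, g • Q = Q := fun g hg => Sylow.smul_eq_iff_mem_normalizer.mpr hg.2
  have hsP : ∀ g ∈ S, g • P = P := fun g hg => (hfixP g).mp hg.1
  have hcomm : ∀ a ∈ (P : Subgroup G), ∀ b ∈ (P : Subgroup G), a * b = b * a := fun a ha b hb =>
    congrArg Subtype.val (@mul_comm' _ _ (IsPGroup.isMulCommutative_of_card_eq_prime_sq
      (card_sylow h P)) (⟨a, ha⟩ : (P : Subgroup G)) ⟨b, hb⟩)
  have hSc : Nat.card S = 4 := by
    let F : ↥(P : Subgroup G) × S → N := fun z =>
      ⟨z.1 * z.2, mul_mem (le_normalizer z.1.2) z.2.2.1⟩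
    have hF : Function.Bijective F := by
      constructor
      · rintro ⟨a, x⟩ ⟨b, y⟩ he
        have h1 : (a : G) * x = b * y := congrArg Subtype.val he
        have h2 : (a : G) • Q = (b : G) • Q := by
          have := congrArg (· • Q) h1
          simpa only [mul_smul, hsQ _ x.2, hsQ _ y.2] using this
        have h3 : a = b := Subtype.ext (inv_mul_eq_one.mp (hfree _ (mul_mem (inv_mem a.2) b.2) Q hQP
          (by rw [mul_smul, ← h2, inv_smul_smul])))
        subst h3
        exact Prod.ext rfl (Subtype.ext (mul_left_cancel h1))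
      · rintro ⟨g, hg⟩
        obtain ⟨a, ha, haQ⟩ := hreg (g • Q) fun he =>
          hQP (smul_left_cancel g (he.trans ((hfixP g).mp hg).symm))
        refine ⟨⟨⟨a, ha⟩, ⟨a⁻¹ * g, N.mul_mem (N.inv_mem (le_normalizer ha)) hg,
          Sylow.smul_eq_iff_mem_normalizer.mp ?_⟩⟩, Subtype.ext (mul_inv_cancel_left a g)⟩
        rw [mul_smul, ← haQ, inv_smul_smul]
    have := Nat.card_congr (Equiv.ofBijective F hF)
    rw [Nat.card_prod, card_sylow h, hNc] at this
    omega
  have hfaithS : ∀ g ∈ S, (∀ a ∈ (P : Subgroup G), g * a * g⁻¹ = a) → g = 1 := by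
    intro g hg hc
    refine hfaith g fun R => ?_
    by_cases hR : R = P
    · rw [hR]; exact hsP g hg
    · obtain ⟨a, ha, rfl⟩ := hreg R hR
      rw [smul_smul, mul_inv_eq_iff_eq_mul.mp (hc a ha), mul_smul, hsQ g hg]
  -- involutions of `S` invert `P`
  have hinv : ∀ i ∈ S, orderOf i = 2 → ∀ a ∈ (P : Subgroup G), i * a * i⁻¹ = a⁻¹ := by
    intro i hi ho
    have hii : i * i = 1 := by
      rw [← pow_two]; exact (congrArg (i ^ ·) ho).symm.trans (pow_orderOf_eq_one i)
    have hmem : ∀ a ∈ (P : Subgroup G), i * a * i⁻¹ ∈ (P : Subgroup G) := fun a ha =>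
      (mem_normalizer_iff.mp hi.1 a).mp ha
    set C := (P : Subgroup G) ⊓ centralizer ({i} : Set G) with hC
    have hC1 : C = ⊥ := by
      rw [← Subgroup.card_eq_one]
      have hdvd : Nat.card C ∣ 3 ^ 2 := card_sylow h P ▸ card_dvd_of_le inf_le_left
      obtain ⟨e, he, hCe⟩ := (Nat.dvd_prime_pow Nat.prime_three).mp hdvd
      have hne9 : e ≠ 2 := by
        rintro rfl
        have hCP : C = P := eq_of_le_of_card_ge inf_le_left (by rw [hCe, card_sylow h])
        have := hfaithS i hi fun a ha => by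
          have h1 : a ∈ C := hCP.symm ▸ ha
          rw [← mem_centralizer_singleton_iff.mp h1.2, mul_inv_cancel_right]
        rw [this, orderOf_one] at ho
        norm_num at ho
      by_contra hne1
      have he1 : e = 1 := by
        rcases (show e = 0 ∨ e = 1 ∨ e = 2 by omega) with rfl | rfl | rfl
        · exact absurd (by simpa using hCe) hne1
        · rfl
        · exact absurd rfl hne9
      rw [he1, pow_one] at hCe
      -- four fixed points
      set σ : Equiv.Perm (Sylow 3 G) := toPerm i with hσ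
      have h2 : σ ^ 2 = 1 := by
        ext R : 1
        simp [hσ, pow_two, Equiv.Perm.mul_apply, smul_smul, hii]
      have h4 := four_dvd_card_moved σ h2 (sign_toPerm_eq_one hG i)
      have : Fintype C := Fintype.ofFinite _
      have hfix : (Finset.univ.filter fun R => σ R = R) =
          insert P (Finset.univ.image fun a : C => (a : G) • Q) := by
        ext R
        simp only [Finset.mem_filter, Finset.mem_univ, true_and, Finset.mem_insert, Finset.mem_image,
          hσ, toPerm_apply]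
        constructor
        · intro hR
          by_cases hRP : R = P
          · exact Or.inl hRP
          · obtain ⟨a, ha, rfl⟩ := hreg R hRP
            refine Or.inr ⟨⟨a, ha, mem_centralizer_singleton_iff.mpr ?_⟩, rfl⟩
            have h1 : (i * a * i⁻¹) • Q = a • Q := by
              rw [mul_smul, mul_smul, inv_smul_eq_iff.mpr (hsQ i hi).symm, hR]
            have h3 := inv_mul_eq_one.mp (hfree _ (mul_mem (inv_mem ha) (hmem a ha)) Q hQP
              (by rw [mul_smul, h1, inv_smul_smul]))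
            exact (mul_inv_eq_iff_eq_mul.mp h3.symm).symm
        · rintro (rfl | ⟨a, rfl⟩)
          · exact hsP i hi
          · rw [smul_smul, (mem_centralizer_singleton_iff.mp a.2.2).symm, mul_smul, hsQ i hi]
      have hcardfix : (Finset.univ.filter fun R => σ R = R).card = 4 := by
        rw [hfix, Finset.card_insert_of_notMem, Finset.card_image_of_injective,
          Finset.card_univ, ← Nat.card_eq_fintype_card, hCe]
        · intro a b hab
          exact Subtype.ext (inv_mul_eq_one.mp (hfree _ (mul_mem (inv_mem a.2.1) b.2.1) Q hQP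
            (by
              have h1 : (a : G) • Q = (b : G) • Q := hab
              rw [mul_smul, ← h1, inv_smul_smul])))
        · simp only [Finset.mem_image, not_exists, not_and]
          rintro a - he
          exact hQP (smul_left_cancel (a : G) (he.trans (hPo _ a.2.1).symm))
      have hsum : σ.support.card + (Finset.univ.filter fun R => σ R = R).card = 10 := by
        rw [← hn, Equiv.Perm.support, add_comm, ← Finset.card_univ]
        exact Finset.card_filter_add_card_filter_not (fun R => σ R = R)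
      omega
    intro a ha
    have h1 : a * (i * a * i⁻¹) ∈ C := by
      refine ⟨mul_mem ha (hmem a ha), mem_centralizer_singleton_iff.mpr ?_⟩
      have h2 : i⁻¹ = i := inv_eq_of_mul_eq_one_right hii
      have hm2 := hmem a ha
      rw [h2] at hm2 ⊢
      have hc2 := hcomm a ha _ hm2
      calc a * (i * a * i) * i = a * i * a * (i * i) := by group
        _ = a * i * a := by rw [hii, mul_one]
        _ = i * i * a * i * a := by rw [hii, one_mul]
        _ = i * (i * a * i * a) := by group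
        _ = i * (a * (i * a * i)) := by rw [hc2]
    rw [hC1, mem_bot] at h1
    exact eq_inv_of_mul_eq_one_right h1
  -- a generator of `S`
  obtain ⟨s, hs, hso⟩ : ∃ s ∈ S, orderOf s = 4 := by
    by_contra! hno
    have h2 : ∀ g ∈ S, g ≠ 1 → orderOf g = 2 := by
      intro g hg hg1
      have hd : orderOf g ∣ 2 ^ 2 := by
        rw [show 2 ^ 2 = Nat.card S from hSc.symm]; exact orderOf_dvd_natCard _ hg
      obtain ⟨e, he, hge⟩ := (Nat.dvd_prime_pow Nat.prime_two).mp hd
      rcases (show e = 0 ∨ e = 1 ∨ e = 2 by omega) with rfl | rfl | rfl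
      · exact absurd (orderOf_eq_one_iff.mp (by simpa using hge)) hg1
      · simpa using hge
      · exact absurd (by simpa using hge) (hno g hg)
    have : Fintype S := Fintype.ofFinite _
    have h3 : 2 ≤ ((Finset.univ : Finset S).erase 1).card := by
      rw [Finset.card_erase_of_mem (Finset.mem_univ _), Finset.card_univ,
        ← Nat.card_eq_fintype_card, hSc]
      norm_num
    obtain ⟨g, hg, k, hk, hgk⟩ := Finset.one_lt_card.mp h3
    have hg1 : (g : G) ≠ 1 := fun e => (Finset.mem_erase.mp hg).1 (Subtype.ext e)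
    have hk1 : (k : G) ≠ 1 := fun e => (Finset.mem_erase.mp hk).1 (Subtype.ext e)
    refine hgk (Subtype.ext (inv_mul_eq_one.mp (hfaithS _ (mul_mem (inv_mem g.2) k.2) fun a ha => ?_)))
    have e1 := hinv g g.2 (h2 g g.2 hg1) a ha
    have e2 := hinv k k.2 (h2 k k.2 hk1) a ha
    calc ((g : G)⁻¹ * k) * a * ((g : G)⁻¹ * k)⁻¹ = (g : G)⁻¹ * ((k : G) * a * (k : G)⁻¹) * g := by group
      _ = (g : G)⁻¹ * ((g : G) * a * (g : G)⁻¹) * g := by rw [e1, e2]
      _ = a := by group
  have hstab : ∀ g : G, g • P = P → g • Q = Q → g ∈ zpowers s := fun g hgP hgQ => by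
    have hz : zpowers s = S := eq_of_le_of_card_ge (zpowers_le.mpr hs)
      (by rw [Nat.card_zpowers, hso, hSc])
    rw [hz]
    exact ⟨(hfixP g).mpr hgP, Sylow.smul_eq_iff_mem_normalizer.mp hgQ⟩
  have hs4 : s ^ 4 = 1 := (congrArg (s ^ ·) hso).symm.trans (pow_orderOf_eq_one s)
  have hs2 : orderOf (s ^ 2) = 2 := by
    rw [orderOf_pow' s two_ne_zero, hso]; rfl
  -- a basis of `P`
  obtain ⟨e', he'⟩ := exists_prime_orderOf_dvd_card' (G := (P : Subgroup G)) 3
    (by rw [card_sylow h]; norm_num)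
  set e : G := (e' : G) with hedef
  have heP : e ∈ (P : Subgroup G) := e'.2
  have heo : orderOf e = 3 := by rw [hedef, Subgroup.orderOf_coe, he']
  set f : G := s * e * s⁻¹ with hf
  have hfP : f ∈ (P : Subgroup G) := (mem_normalizer_iff.mp hs.1 e).mp heP
  have he3 : e ^ 3 = 1 := (congrArg (e ^ ·) heo).symm.trans (pow_orderOf_eq_one e)
  have hf3 : f ^ 3 = 1 := by rw [hf, conj_pow, he3, mul_one, mul_inv_cancel]
  have hsf : s * f * s⁻¹ = e⁻¹ := by
    rw [hf, ← hinv _ (pow_mem hs 2) hs2 e heP, pow_two]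
    group
  have hfe : f ∉ zpowers e := by
    intro hmem
    obtain ⟨n, hn'⟩ := mem_zpowers_iff.mp hmem
    have hnmod : e ^ n = e ^ (n % 3) := by
      rw [← zpow_mod_orderOf, heo]; rfl
    have h1 : s * f * s⁻¹ = e ^ (n * n) := by
      rw [← hn', ← conj_zpow, ← hf, ← hn', ← zpow_mul]
    rw [hsf] at h1
    have h2 : e ^ (n * n + 1) = 1 := by rw [zpow_add, ← h1, zpow_one, inv_mul_cancel]
    have h3 : (3 : ℤ) ∣ n * n + 1 := by
      have := orderOf_dvd_iff_zpow_eq_one.mpr h2
      rwa [heo] at this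
    have h4 := sq_add_one_ne
    exact h4 (n : ZMod 3) (by
      have := (ZMod.intCast_zmod_eq_zero_iff_dvd (n * n + 1) 3).mpr h3
      push_cast at this
      exact this)
  let a : ℕ → G := fun i => e ^ (i % 3) * f ^ (i / 3)
  have hef : Commute e f := hcomm e heP f hfP
  have haP : ∀ i, a i ∈ (P : Subgroup G) := fun i => mul_mem (pow_mem heP _) (pow_mem hfP _)
  refine TwoPoint.exists_injective_std_of_action addTab mulTab [1, 4] stdTab check hn hfaith P Q hQP
    a s (fun i _ => hPo _ (haP i)) (by simp [a]) ?_ ?_ (hsP s hs) (hsQ s hs) hs4 ?_ hstab ?_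
  · intro i hi j hj hij
    have h1 : (a i)⁻¹ * a j = 1 := hfree _ (mul_mem (inv_mem (haP i)) (haP j)) Q hQP
      (by rw [mul_smul, ← hij, inv_smul_smul])
    have h2 : a i = a j := inv_mul_eq_one.mp h1
    have h3 : i / 3 = j / 3 := by
      by_contra hne
      apply hfe
      have h5 : f ^ ((i / 3 : ℕ) - (j / 3 : ℕ) : ℤ) = e ^ ((j % 3 : ℕ) - (i % 3 : ℕ) : ℤ) := by
        simp only [a] at h2
        rw [zpow_sub, zpow_sub, zpow_natCast, zpow_natCast, zpow_natCast, zpow_natCast]
        calc f ^ (i / 3) * (f ^ (j / 3))⁻¹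
            = (e ^ (i % 3))⁻¹ * (e ^ (i % 3) * f ^ (i / 3)) * (f ^ (j / 3))⁻¹ := by group
          _ = (e ^ (i % 3))⁻¹ * e ^ (j % 3) := by rw [h2]; group
          _ = e ^ (j % 3) * (e ^ (i % 3))⁻¹ := (((Commute.refl e).pow_pow _ _).inv_left).eq
      obtain ⟨d, hd⟩ : ∃ d : ℤ, f = (f ^ ((i / 3 : ℕ) - (j / 3 : ℕ) : ℤ)) ^ d := by
        rcases (show ((i / 3 : ℕ) - (j / 3 : ℕ) : ℤ) = 1 ∨ ((i / 3 : ℕ) - (j / 3 : ℕ) : ℤ) = 2 ∨
            ((i / 3 : ℕ) - (j / 3 : ℕ) : ℤ) = -1 ∨ ((i / 3 : ℕ) - (j / 3 : ℕ) : ℤ) = -2 by omega)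
          with hc | hc | hc | hc <;> rw [hc]
        · exact ⟨1, by simp⟩
        · refine ⟨2, ?_⟩
          rw [← zpow_mul]
          conv_lhs => rw [← mul_one f, ← hf3]
          group
        · exact ⟨-1, by simp⟩
        · refine ⟨-2, ?_⟩
          rw [← zpow_mul]
          conv_lhs => rw [← mul_one f, ← hf3]
          group
      rw [hd, h5]
      exact zpow_mem (zpow_mem (mem_zpowers e) _) _
    have h4 : i % 3 = j % 3 := by
      simp only [a, h3, mul_left_inj] at h2
      rw [pow_eq_pow_iff_modEq, heo] at h2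
      exact (Nat.mod_mod i 3).symm.trans (h2.trans (Nat.mod_mod j 3))
    omega
  · intro i hi j hj
    obtain ⟨hlt, hm, hd⟩ := tab_spec i hi j hj
    refine ⟨hlt, ?_⟩
    simp only [a]
    rw [hm, hd, ← pow_eq_pow_mod (i + j) he3, ← pow_eq_pow_mod (i / 3 + j / 3) hf3,
      ← pow_eq_pow_mod i he3, ← pow_eq_pow_mod j he3]
    calc e ^ i * f ^ (i / 3) * (e ^ j * f ^ (j / 3))
        = e ^ i * (f ^ (i / 3) * e ^ j) * f ^ (j / 3) := by simp only [mul_assoc]
      _ = e ^ i * (e ^ j * f ^ (i / 3)) * f ^ (j / 3) := by rw [(hef.symm.pow_pow _ _).eq]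
      _ = _ := by rw [pow_add, pow_add]; simp only [mul_assoc]
  · intro i hi
    obtain ⟨hlt, hm, hd⟩ := mul_spec i hi
    refine ⟨hlt, ?_⟩
    simp only [a]
    rw [hm, hd, ← pow_eq_pow_mod (2 * (i / 3)) he3]
    have e0 : ∀ x y : G, s * (x * y) * s⁻¹ = (s * x * s⁻¹) * (s * y * s⁻¹) := fun x y => by group
    have e1 : s * (e ^ (i % 3) * f ^ (i / 3)) * s⁻¹ =
        (s * e * s⁻¹) ^ (i % 3) * (s * f * s⁻¹) ^ (i / 3) := by rw [e0, ← conj_pow, ← conj_pow]
    have e2 : e⁻¹ = e ^ 2 := inv_eq_of_mul_eq_one_right (by rw [← pow_succ']; exact he3)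
    rw [e1, ← hf, hsf, e2, ← pow_mul]
    exact ((hef.symm).pow_pow _ _).eq
  · refine TwoPoint.exists_involution_swap hfaith (by rw [h]; norm_num) fun R hR => ?_
    obtain ⟨g, hg, hgQ⟩ := hreg R hR
    exact ⟨g, hPo g hg, hgQ⟩

theorem mulEquiv (h : Nat.card G = 360) : Nonempty (G ≃* alternatingGroup (Fin 6)) := by
  have hA : Nat.card (alternatingGroup (Fin 6)) = 360 := by
    rw [nat_card_alternatingGroup, Nat.card_eq_fintype_card, Fintype.card_fin]
    rfl
  have : IsSimpleGroup (alternatingGroup (Fin 6)) := alternatingGroup.isSimpleGroup (by simp)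
  exact TwoPoint.mulEquiv_of_injective_std (exists_injective_std h) (exists_injective_std hA)

end Cfsg.Agent.SmallOrders.S360
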